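import Groth.Agent.Lib.IntClosFin.Main
import Groth.Agent.Lib.KrullAkizuki.DVR
import Groth.Agent.Lib.TrivDef.Scheme
import Groth.Agent.Lib.Descend.SmoothAtRing
import Mathlib

/-!
# The normalization of a curve becomes smooth after a finite purely inseparable extension
-/

set_option autoImplicit false
set_option maxHeartbeats 400000
set_option linter.style.haveILetI false

universe u

open TensorProduct

namespace Groth.Agent.InsepNorm5

variable {k Ω : Type u} [Field k] [Field Ω] [Algebra k Ω]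

/-- An element of an algebra generated over a field extension is generated over finitely many of its elements. -/
theorem exists_level_adjoin (K : IntermediateField k Ω) (S : Set Ω) {z : Ω} (hz : z ∈ Algebra.adjoin K S) :
    ∃ T : Finset Ω, ↑T ⊆ (K : Set Ω) ∧
      ∀ F : IntermediateField k Ω, ↑T ⊆ (F : Set Ω) → z ∈ Algebra.adjoin F S := by
  classical
  induction hz using Algebra.adjoin_induction with
  | mem x hx => exact ⟨∅, by simp, fun F _ => Algebra.subset_adjoin hx⟩
  | algebraMap r =>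
    refine ⟨{(r : Ω)}, by simp, fun F hF => ?_⟩
    exact (Algebra.adjoin F S).algebraMap_mem ⟨r, hF (by simp)⟩
  | add a b _ _ ha hb =>
    obtain ⟨T₁, h₁, e₁⟩ := ha
    obtain ⟨T₂, h₂, e₂⟩ := hb
    refine ⟨T₁ ∪ T₂, by simp [h₁, h₂], fun F hF => ?_⟩
    rw [Finset.coe_union, Set.union_subset_iff] at hF
    exact add_mem (e₁ F hF.1) (e₂ F hF.2)
  | mul a b _ _ ha hb =>
    obtain ⟨T₁, h₁, e₁⟩ := ha
    obtain ⟨T₂, h₂, e₂⟩ := hb
    refine ⟨T₁ ∪ T₂, by simp [h₁, h₂], fun F hF => ?_⟩
    rw [Finset.coe_union, Set.union_subset_iff] at hF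
    exact mul_mem (e₁ F hF.1) (e₂ F hF.2)

/-- An element of a field generated over a field extension is generated over finitely many of its elements. -/
theorem exists_level_field (K : IntermediateField k Ω) (S : Set Ω) {z : Ω} (hz : z ∈ IntermediateField.adjoin K S) :
    ∃ T : Finset Ω, ↑T ⊆ (K : Set Ω) ∧
      ∀ F : IntermediateField k Ω, ↑T ⊆ (F : Set Ω) → z ∈ IntermediateField.adjoin F S := by
  classical
  obtain ⟨a, ha, b, hb, rfl⟩ := IntermediateField.mem_adjoin_iff_div.mp hz
  obtain ⟨T₁, h₁, e₁⟩ := exists_level_adjoin K S ha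
  obtain ⟨T₂, h₂, e₂⟩ := exists_level_adjoin K S hb
  refine ⟨T₁ ∪ T₂, by simp [h₁, h₂], fun F hF => ?_⟩
  rw [Finset.coe_union, Set.union_subset_iff] at hF
  exact div_mem (IntermediateField.algebra_adjoin_le_adjoin F S (e₁ F hF.1))
    (IntermediateField.algebra_adjoin_le_adjoin F S (e₂ F hF.2))

theorem range_comp_surj {R A B C : Type u} [CommRing R] [CommRing A] [CommRing B] [CommRing C] [Algebra R A]
    [Algebra R B] [Algebra R C] (g : B →ₐ[R] C) (f : A →ₐ[R] B) (hf : Function.Surjective f) :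
    (g.comp f).range = g.range :=
  SetLike.coe_injective (Function.Surjective.range_comp hf g)

theorem regular_of_dedekind (C : Type u) [CommRing C] [IsDedekindDomain C] (q : Ideal C) [q.IsPrime] :
    IsRegularLocalRing (Localization.AtPrime q) := by
  haveI : IsPrincipalIdealRing (Localization.AtPrime q) := by
    by_cases hq : q = ⊥
    · subst hq
      have hf : IsField (Localization.AtPrime (⊥ : Ideal C)) := by
        haveI : IsFractionRing C (Localization.AtPrime (⊥ : Ideal C)) := by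
          have : (⊥ : Ideal C).primeCompl = nonZeroDivisors C := by
            ext x; simp [Ideal.primeCompl, mem_nonZeroDivisors_iff_ne_zero]
          unfold IsFractionRing
          rw [← this]
          infer_instance
        exact (IsFractionRing.toField C (K := Localization.AtPrime (⊥ : Ideal C))).toIsField
      letI := hf.toField
      infer_instance
    · haveI := IsLocalization.AtPrime.isDiscreteValuationRing_of_dedekind_domain C hq (Localization.AtPrime q)
      infer_instance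
  infer_instance

/-- Smoothness descends along a field extension. -/
theorem smooth_descend (F K C₀ : Type u) [Field F] [Field K] [Algebra F K] [CommRing C₀] [Algebra F C₀]
    [Algebra.FinitePresentation F C₀] [Algebra.Smooth K (K ⊗[F] C₀)] : Algebra.Smooth F C₀ := by
  letI : Algebra C₀ (K ⊗[F] C₀) := Algebra.TensorProduct.rightAlgebra
  haveI : Module.FaithfullyFlat C₀ (K ⊗[F] C₀) :=
    Module.FaithfullyFlat.of_linearEquiv C₀ (C₀ ⊗[F] K) (Algebra.TensorProduct.commRight F C₀ K).toLinearEquiv.symm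
  refine ⟨Algebra.smoothLocus_eq_univ_iff.1 (Set.eq_univ_of_forall fun p => ?_), inferInstance⟩
  obtain ⟨p', rfl⟩ := PrimeSpectrum.comap_surjective_of_faithfullyFlat (A := C₀) (B := K ⊗[F] C₀) p
  exact Descend.smoothLocus_of_baseChange (A := F) (B := C₀) (A' := K) p'
    (by rw [Algebra.smoothLocus_eq_univ_iff.2 (inferInstance : Algebra.FormallySmooth K (K ⊗[F] C₀))]; trivial)

/-- Division descends along a field extension. -/
theorem div_descend {F K C₀ : Type u} [Field F] [Field K] [Algebra F K] [CommRing C₀] [Algebra F C₀]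
    [Algebra F Ω] [Algebra K Ω] [IsScalarTower F K Ω] (ψ : C₀ →ₐ[F] Ω) (θ : K ⊗[F] C₀ →ₐ[K] Ω)
    (hθ : Function.Injective θ) (hψθ : ∀ a, θ (1 ⊗ₜ a) = ψ a) :
    Function.Injective ψ ∧ ∀ a b : C₀, ψ b ≠ 0 → ψ a / ψ b ∈ θ.range → ψ a / ψ b ∈ ψ.range := by
  letI : Algebra C₀ (K ⊗[F] C₀) := Algebra.TensorProduct.rightAlgebra
  haveI : Module.FaithfullyFlat C₀ (K ⊗[F] C₀) :=
    Module.FaithfullyFlat.of_linearEquiv C₀ (C₀ ⊗[F] K) (Algebra.TensorProduct.commRight F C₀ K).toLinearEquiv.symm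
  have hal : ∀ a, algebraMap C₀ (K ⊗[F] C₀) a = 1 ⊗ₜ a := fun a => rfl
  refine ⟨fun a b hab => ?_, fun a b hb0 hab => ?_⟩
  · rw [← hψθ, ← hψθ, ← hal, ← hal] at hab
    exact FaithfulSMul.algebraMap_injective C₀ (K ⊗[F] C₀) (hθ hab)
  obtain ⟨y, hy⟩ := hab
  change θ y = ψ a / ψ b at hy
  have h1 : algebraMap C₀ (K ⊗[F] C₀) a = algebraMap C₀ (K ⊗[F] C₀) b * y := hθ (by
    rw [map_mul, hy, hal, hal, hψθ, hψθ, mul_div_cancel₀ _ hb0])
  have h2 : a ∈ ((Ideal.span {b}).map (algebraMap C₀ (K ⊗[F] C₀))).comap (algebraMap C₀ (K ⊗[F] C₀)) := by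
    rw [Ideal.mem_comap, h1, Ideal.map_span, Set.image_singleton]
    exact Ideal.mul_mem_right _ _ (Ideal.subset_span rfl)
  rw [Ideal.comap_map_eq_self_of_faithfullyFlat, Ideal.mem_span_singleton'] at h2
  obtain ⟨w, rfl⟩ := h2
  exact ⟨w, by
    show ψ w = ψ (w * b) / ψ b
    rw [map_mul, mul_div_cancel_right₀ _ hb0]⟩

/-- The core of the descent. -/
theorem descend_core {F K : Type u} [Field F] [Field K] [Algebra F K] [Algebra F Ω] [Algebra K Ω]
    [IsScalarTower F K Ω] {D : Type u} [CommRing D] [Algebra K D] [Algebra.Smooth K D] (ι : D →ₐ[K] Ω)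
    (hι : Function.Injective ι) {n : ℕ} (φ : MvPolynomial (Fin n) K →ₐ[K] D) (hφ : Function.Surjective φ)
    (fs : Finset (MvPolynomial (Fin n) K)) (hfs : Ideal.span (fs : Set (MvPolynomial (Fin n) K)) = RingHom.ker φ)
    (f' : fs → MvPolynomial (Fin n) F)
    (hf' : ∀ f : fs, MvPolynomial.map (algebraMap F K) (f' f) = (f : MvPolynomial (Fin n) K))
    (c : Fin n → Ω) (hci : ∀ i, ι (φ (MvPolynomial.X i)) = c i) :
    Algebra.Smooth F (Algebra.adjoin F (Set.range c)) ∧
      ∀ a b : Ω, a ∈ Algebra.adjoin F (Set.range c) → b ∈ Algebra.adjoin F (Set.range c) → b ≠ 0 →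
        a / b ∈ Algebra.adjoin K (Set.range c) → a / b ∈ Algebra.adjoin F (Set.range c) := by
  have hc : Algebra.adjoin K (Set.range c) = ι.range := by
    rw [← range_comp_surj ι φ hφ, Algebra.adjoin_range_eq_range_aeval]
    congr 1
    exact MvPolynomial.algHom_ext fun i => by simp [hci]
  let C := Algebra.adjoin F (Set.range c)
  let I : Ideal (MvPolynomial (Fin n) F) := Ideal.span (Set.range f')
  let C₀ := MvPolynomial (Fin n) F ⧸ I
  let ψ : C₀ →ₐ[F] Ω := Ideal.Quotient.liftₐ I (MvPolynomial.aeval c) (by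
    suffices I ≤ RingHom.ker (MvPolynomial.aeval c : MvPolynomial (Fin n) F →ₐ[F] Ω) from fun a ha => this ha
    rw [Ideal.span_le]
    rintro _ ⟨f, rfl⟩
    show MvPolynomial.aeval c (f' f) = 0
    rw [← MvPolynomial.aeval_map_algebraMap K, hf']
    have h0 : φ (f : MvPolynomial (Fin n) K) = 0 := RingHom.mem_ker.1 (hfs.le (Ideal.subset_span f.2))
    rw [show (MvPolynomial.aeval c : MvPolynomial (Fin n) K →ₐ[K] Ω) = ι.comp φ from
      MvPolynomial.algHom_ext fun i => by simp [hci]]
    show ι (φ f) = 0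
    rw [h0, map_zero])
  let θ : K ⊗[F] C₀ →ₐ[K] Ω := Algebra.TensorProduct.lift (Algebra.ofId K Ω) ψ fun _ _ => Commute.all _ _
  let e₁ : K ⊗[F] MvPolynomial (Fin n) F ≃ₐ[K] MvPolynomial (Fin n) K := MvPolynomial.algebraTensorAlgEquiv F K
  have hθ : Function.Injective θ := by
    rw [injective_iff_map_eq_zero]
    intro z hz
    let π : K ⊗[F] MvPolynomial (Fin n) F →ₐ[K] K ⊗[F] C₀ :=
      Algebra.TensorProduct.map (AlgHom.id K K) (Ideal.Quotient.mkₐ F I)
    obtain ⟨z, rfl⟩ : ∃ w, π w = z := LinearMap.lTensor_surjective K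
      (g := (Ideal.Quotient.mkₐ F I).toLinearMap) Ideal.Quotient.mk_surjective z
    obtain ⟨z, rfl⟩ := e₁.symm.surjective z
    have hcomp : (θ.comp π).comp e₁.symm.toAlgHom = ι.comp φ := MvPolynomial.algHom_ext fun i => by
      refine Eq.trans ?_ (hci i).symm
      show θ (π (e₁.symm (MvPolynomial.X i))) = c i
      rw [MvPolynomial.algebraTensorAlgEquiv_symm_X]
      show algebraMap K Ω 1 * MvPolynomial.aeval c (MvPolynomial.X i) = _
      rw [map_one, one_mul, MvPolynomial.aeval_X]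
    have h0 : φ z = 0 := hι (by
      rw [map_zero, ← AlgHom.comp_apply, ← hcomp]; exact hz)
    have hmem : z ∈ Ideal.span (fs : Set (MvPolynomial (Fin n) K)) := hfs.ge h0
    refine Submodule.span_induction (p := fun w _ => π (e₁.symm w) = 0) (fun w hw => ?_)
      (by rw [map_zero, map_zero]) (fun a b _ _ ha hb => by rw [map_add, map_add, ha, hb, add_zero])
      (fun a b _ hb => by rw [smul_eq_mul, map_mul e₁.symm, map_mul π, hb]; exact MulZeroClass.mul_zero (π (e₁.symm a) : K ⊗[F] C₀)) hmem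
    show π (e₁.symm (Subtype.val (⟨w, hw⟩ : fs))) = 0
    rw [← hf' ⟨w, hw⟩]
    have h1 : e₁.symm (MvPolynomial.map (algebraMap F K) (f' ⟨w, hw⟩)) = 1 ⊗ₜ f' ⟨w, hw⟩ := by
      rw [AlgEquiv.symm_apply_eq, MvPolynomial.algebraTensorAlgEquiv_tmul, one_smul]
    rw [h1]
    show (1 : K) ⊗ₜ[F] Ideal.Quotient.mk I (f' ⟨w, hw⟩) = 0
    rw [show Ideal.Quotient.mk I (f' ⟨w, hw⟩) = 0 from
      Ideal.Quotient.eq_zero_iff_mem.2 (Ideal.subset_span (Set.mem_range_self (⟨w, hw⟩ : fs)))]
    exact TensorProduct.tmul_zero C₀ (1 : K)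
  have hrange : θ.range = ι.range := by
    apply le_antisymm
    · rintro _ ⟨z, rfl⟩
      rw [← hc]
      refine TensorProduct.induction_on z (by show θ 0 ∈ _; rw [map_zero]; exact zero_mem _) (fun a w => ?_)
        fun a b ha hb => by
        show θ (a + b) ∈ _; rw [map_add]; exact add_mem ha hb
      show algebraMap K Ω a * ψ w ∈ _
      refine mul_mem (Subalgebra.algebraMap_mem _ _) ?_
      obtain ⟨p, rfl⟩ := Ideal.Quotient.mk_surjective w
      show MvPolynomial.aeval c p ∈ _
      rw [← MvPolynomial.aeval_map_algebraMap K, Algebra.adjoin_range_eq_range_aeval]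
      exact ⟨_, rfl⟩
    · rw [← hc, Algebra.adjoin_le_iff]
      rintro _ ⟨i, rfl⟩
      exact ⟨1 ⊗ₜ Ideal.Quotient.mk I (MvPolynomial.X i), by
        show algebraMap K Ω 1 * MvPolynomial.aeval c (MvPolynomial.X i) = _
        rw [map_one, one_mul, MvPolynomial.aeval_X]⟩
  let e : (K ⊗[F] C₀) ≃ₐ[K] D :=
    (AlgEquiv.ofInjective θ hθ).trans ((Subalgebra.equivOfEq _ _ hrange).trans (AlgEquiv.ofInjective ι hι).symm)
  haveI : Algebra.Smooth K (K ⊗[F] C₀) := Algebra.Smooth.of_equiv e.symm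
  haveI : Algebra.FinitePresentation F C₀ :=
    Algebra.FinitePresentation.quotient (Submodule.fg_span (Set.finite_range f'))
  haveI : Algebra.Smooth F C₀ := smooth_descend F K C₀
  obtain ⟨hψ, hdiv⟩ := div_descend ψ θ hθ fun a => by
    show algebraMap K Ω 1 * ψ a = _
    rw [map_one, one_mul]
  have hψr : ψ.range = C := by
    rw [show C = (MvPolynomial.aeval c).range from Algebra.adjoin_range_eq_range_aeval _ _]
    exact (range_comp_surj ψ (Ideal.Quotient.mkₐ F I) Ideal.Quotient.mk_surjective).symm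
  refine ⟨Algebra.Smooth.of_equiv ((AlgEquiv.ofInjective ψ hψ).trans (Subalgebra.equivOfEq _ _ hψr)),
    fun a b ha hb hb0 hab => ?_⟩
  change a ∈ C at ha
  change b ∈ C at hb
  change a / b ∈ C
  rw [← hψr] at ha hb ⊢
  obtain ⟨a, rfl⟩ := ha
  obtain ⟨b, rfl⟩ := hb
  exact hdiv a b hb0 (hrange ▸ hc ▸ hab)

/-- An algebra of finite presentation over a field descends to a smooth one over every large enough level. -/
theorem exists_presentation_level (K : IntermediateField k Ω) (D : Type u) [CommRing D] [Algebra K D]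
    [Algebra.Smooth K D] (ι : D →ₐ[K] Ω) (hι : Function.Injective ι) :
    ∃ (c : Finset Ω) (T : Finset Ω), (∀ z : Ω, z ∈ Algebra.adjoin K (c : Set Ω) ↔ z ∈ ι.range) ∧
      ↑T ⊆ (K : Set Ω) ∧ ∀ F : IntermediateField k Ω, F ≤ K → ↑T ⊆ (F : Set Ω) →
        Algebra.Smooth F (Algebra.adjoin F (c : Set Ω)) ∧
        ∀ a b : Ω, a ∈ Algebra.adjoin F (c : Set Ω) → b ∈ Algebra.adjoin F (c : Set Ω) → b ≠ 0 →
          a / b ∈ Algebra.adjoin K (c : Set Ω) → a / b ∈ Algebra.adjoin F (c : Set Ω) := by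
  classical
  obtain ⟨n, φ, hφ, hker⟩ := Algebra.FinitePresentation.out (R := K) (A := D)
  obtain ⟨fs, hfs⟩ := hker
  let c : Fin n → Ω := fun i => ι (φ (MvPolynomial.X i))
  have hc : Algebra.adjoin K (Set.range c) = ι.range := by
    rw [Algebra.adjoin_range_eq_range_aeval, ← range_comp_surj ι φ hφ]
    congr 1
    exact MvPolynomial.algHom_ext fun i => by simp [c]
  let T₃ : Finset Ω := fs.biUnion fun f => f.support.image fun m => ((f.coeff m : K) : Ω)
  have hcs : ((Finset.univ.image c : Finset Ω) : Set Ω) = Set.range c := by simp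
  refine ⟨Finset.univ.image c, T₃, fun z => by rw [hcs, hc], ?_, fun F hFK hF => ?_⟩
  · intro x hx
    simp only [T₃, Finset.coe_biUnion, Set.mem_iUnion, Finset.coe_image, Set.mem_image] at hx
    obtain ⟨f, -, m, -, rfl⟩ := hx
    exact (f.coeff m).2
  rw [hcs]
  letI : Algebra F K := (IntermediateField.inclusion hFK).toRingHom.toAlgebra
  haveI : IsScalarTower F K Ω := IsScalarTower.of_algebraMap_eq fun _ => rfl
  have hlift : ∀ f : fs, ∃ f' : MvPolynomial (Fin n) F, MvPolynomial.map (algebraMap F K) f' = (f : MvPolynomial (Fin n) K) := by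
    intro f
    refine MvPolynomial.mem_range_map_iff_coeffs_subset.2 fun a ha => ?_
    obtain ⟨m, hm, rfl⟩ := MvPolynomial.mem_coeffs_iff.1 ha
    exact ⟨⟨_, hF (Finset.mem_biUnion.2 ⟨f, f.2, Finset.mem_image.2 ⟨m, hm, rfl⟩⟩)⟩, Subtype.ext rfl⟩
  choose f' hf' using hlift
  exact descend_core ι hι φ hφ fs hfs f' hf' c fun _ => rfl

/-- The normalization over a perfect field of an affine curve. -/
theorem exists_normalization (K : Type u) [Field K] [Algebra k K] [Algebra K Ω] [IsScalarTower k K Ω]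
    [PerfectField K] [Algebra.IsAlgebraic k K]
    (S : Finset Ω) [Ring.KrullDimLE 1 (Algebra.adjoin k (S : Set Ω))] :
    ∃ (D : Type u) (_ : CommRing D) (_ : Algebra K D) (_ : Algebra.Smooth K D) (ι : D →ₐ[K] Ω),
      Function.Injective ι ∧
      (∀ y : Ω, y ∈ ι.range ↔ y ∈ IntermediateField.adjoin K (S : Set Ω) ∧ IsIntegral (Algebra.adjoin k (S : Set Ω)) y) := by
  classical
  let R₀ := Algebra.adjoin k (S : Set Ω)
  let R := Algebra.adjoin K (S : Set Ω)
  haveI : Algebra.FiniteType K R := ⟨(Subalgebra.fg_top _).mpr ⟨S, rfl⟩⟩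
  haveI : IsNoetherianRing R := Algebra.FiniteType.isNoetherianRing K R
  -- dimension
  have hle₀ : R₀ ≤ R.restrictScalars k := Algebra.adjoin_le (fun x hx => Algebra.subset_adjoin hx)
  letI : Algebra R₀ R := (Subalgebra.inclusion hle₀).toRingHom.toAlgebra
  haveI : IsScalarTower R₀ R Ω := IsScalarTower.of_algebraMap_eq fun _ => rfl
  haveI : Algebra.IsIntegral R₀ R := ⟨fun z => by
    obtain ⟨z, hz⟩ := z
    rw [← isIntegral_algebraMap_iff (R := R₀) (A := R) (B := Ω) Subtype.val_injective]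
    show IsIntegral R₀ z
    induction hz using Algebra.adjoin_induction with
    | mem x hx => exact isIntegral_algebraMap (R := R₀) (x := ⟨x, Algebra.subset_adjoin hx⟩)
    | algebraMap r =>
      exact ((Algebra.IsIntegral.isIntegral (R := k) r).map (IsScalarTower.toAlgHom k K Ω)).tower_top
    | add a b _ _ ha hb => exact ha.add hb
    | mul a b _ _ ha hb => exact ha.mul hb⟩
  haveI : Ring.KrullDimLE 1 R := Ring.krullDimLE_one_iff_of_noZeroDivisors.2 fun P hP hPp => by
    haveI := hPp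
    obtain ⟨x, hxP, hx0⟩ := Submodule.exists_mem_ne_zero_of_ne_bot hP
    have hne : P.comap (algebraMap R₀ R) ≠ ⊥ :=
      Ideal.comap_ne_bot_of_algebraic_mem hx0 hxP (Algebra.IsIntegral.isIntegral x).isAlgebraic
    exact Ideal.isMaximal_of_isIntegral_of_isMaximal_comap (R := R₀) P
      (Ring.krullDimLE_one_iff_of_noZeroDivisors.1 ‹Ring.KrullDimLE 1 R₀› _ hne inferInstance)
  -- the normalization over `K`
  let L := IntermediateField.adjoin K (S : Set Ω)
  letI : Algebra R L := (Subalgebra.inclusion (IntermediateField.algebra_adjoin_le_adjoin K _)).toAlgebra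
  haveI : IsScalarTower R L Ω := IsScalarTower.of_algebraMap_eq fun _ => rfl
  haveI : IsScalarTower K R L := IsScalarTower.of_algebraMap_eq fun _ => rfl
  haveI : FaithfulSMul R L := (faithfulSMul_iff_algebraMap_injective R L).2 (Subalgebra.inclusion_injective _)
  haveI : IsFractionRing R L := .of_field _ _ fun ⟨_, h⟩ ↦
    have ⟨x, hx, y, hy, eq⟩ := IntermediateField.mem_adjoin_iff_div.mp h
    ⟨⟨x, hx⟩, ⟨y, hy⟩, Subtype.ext eq⟩
  let D := integralClosure R L
  haveI : IsDedekindDomain D := KrullAkizuki.isDedekindDomain_integralClosure R L L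
  haveI : Module.Finite R D := IntClosFin.finite_integralClosure K R L L
  haveI : Algebra.FiniteType K D := Algebra.FiniteType.trans (R := K) (S := R) (A := D) inferInstance inferInstance
  haveI : Algebra.FormallySmooth K D := TrivDef.formallySmooth_of_regular fun q => regular_of_dedekind D q.asIdeal
  haveI : Algebra.FinitePresentation K D := Algebra.FinitePresentation.of_finiteType.1 inferInstance
  let ι : D →ₐ[K] Ω := (IsScalarTower.toAlgHom K L Ω).comp (D.val.restrictScalars K)
  refine ⟨D, inferInstance, inferInstance, ⟨inferInstance, inferInstance⟩, ι,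
    (algebraMap L Ω).injective.comp Subtype.val_injective, fun y => ⟨?_, ?_⟩⟩
  · rintro ⟨d, rfl⟩
    refine ⟨d.1.2, ?_⟩
    have h1 : IsIntegral R (algebraMap L Ω d.1) := d.2.map (IsScalarTower.toAlgHom R L Ω)
    exact isIntegral_trans (R := R₀) (A := R) _ h1
  · rintro ⟨hyL, hy⟩
    exact ⟨⟨⟨y, hyL⟩, (isIntegral_algebraMap_iff (R := R) (A := L) (B := Ω) (algebraMap L Ω).injective).1
      hy.tower_top⟩, rfl⟩

/-- The normalization over a perfect field of an affine curve descends to a smooth algebra over every large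
enough level. -/
theorem exists_smooth_level (K : IntermediateField k Ω) [PerfectField K] [Algebra.IsAlgebraic k K]
    (S : Finset Ω) [Ring.KrullDimLE 1 (Algebra.adjoin k (S : Set Ω))] :
    ∃ T : Finset Ω, ↑T ⊆ (K : Set Ω) ∧ ∀ F : IntermediateField k Ω, F ≤ K → ↑T ⊆ (F : Set Ω) →
      ∃ C : Subalgebra F Ω, Algebra.Smooth F C ∧ ∀ y : Ω,
        y ∈ C ↔ y ∈ IntermediateField.adjoin F (S : Set Ω) ∧ IsIntegral (Algebra.adjoin F (S : Set Ω)) y := by
  classical
  obtain ⟨D, _, _, _, ι, hι, hD⟩ := exists_normalization (k := k) K S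
  obtain ⟨c, T₀, hc, hT₀, hlev⟩ := exists_presentation_level K D ι hι
  have hcD : ∀ i : c, (i : Ω) ∈ IntermediateField.adjoin K (S : Set Ω) ∧
      IsIntegral (Algebra.adjoin k (S : Set Ω)) (i : Ω) :=
    fun i => (hD _).1 ((hc _).1 (Algebra.subset_adjoin i.2))
  choose T₁ hT₁ hT₁' using fun i => exists_level_field K (S : Set Ω) (hcD i).1
  have hSc : ∀ s : S, (s : Ω) ∈ Algebra.adjoin K (c : Set Ω) := fun s =>
    (hc _).2 ((hD _).2 ⟨IntermediateField.subset_adjoin K _ s.2,
      isIntegral_algebraMap (R := Algebra.adjoin k (S : Set Ω)) (x := ⟨s, Algebra.subset_adjoin s.2⟩)⟩)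
  choose T₂ hT₂ hT₂' using fun s => exists_level_adjoin K (c : Set Ω) (hSc s)
  refine ⟨T₀ ∪ Finset.univ.biUnion T₁ ∪ Finset.univ.biUnion T₂, ?_, fun F hFK hF => ?_⟩
  · simp only [Finset.coe_union, Finset.coe_biUnion, Set.union_subset_iff, Set.iUnion_subset_iff]
    exact ⟨⟨hT₀, fun i _ => hT₁ i⟩, fun s _ => hT₂ s⟩
  simp only [Finset.coe_union, Finset.coe_biUnion, Set.union_subset_iff, Set.iUnion_subset_iff] at hF
  obtain ⟨⟨hF₀, hF₁⟩, hF₂⟩ := hF
  obtain ⟨hsm, hdiv⟩ := hlev F hFK hF₀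
  have hle : Algebra.adjoin k (S : Set Ω) ≤ (Algebra.adjoin F (S : Set Ω)).restrictScalars k :=
    Algebra.adjoin_le fun x hx => Algebra.subset_adjoin hx
  letI : Algebra (Algebra.adjoin k (S : Set Ω)) (Algebra.adjoin F (S : Set Ω)) :=
    (Subalgebra.inclusion hle).toRingHom.toAlgebra
  haveI : IsScalarTower (Algebra.adjoin k (S : Set Ω)) (Algebra.adjoin F (S : Set Ω)) Ω :=
    IsScalarTower.of_algebraMap_eq fun _ => rfl
  have hRC : Algebra.adjoin F (S : Set Ω) ≤ Algebra.adjoin F (c : Set Ω) :=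
    Algebra.adjoin_le fun s hs => hT₂' ⟨s, hs⟩ F (hF₂ ⟨s, hs⟩ (Finset.mem_univ _))
  refine ⟨Algebra.adjoin F (c : Set Ω), hsm, fun y => ⟨fun hy => ⟨?_, ?_⟩, ?_⟩⟩
  · refine (Algebra.adjoin_le (S := (IntermediateField.adjoin F (S : Set Ω)).toSubalgebra) ?_) hy
    exact fun i hi => hT₁' ⟨i, hi⟩ F (hF₁ ⟨i, hi⟩ (Finset.mem_univ _))
  · refine Algebra.adjoin_induction (fun x hx => ?_) (fun r => ?_) (fun a b _ _ ha hb => ha.add hb)
      (fun a b _ _ ha hb => ha.mul hb) hy
    · exact (hcD ⟨x, hx⟩).2.tower_top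
    · exact isIntegral_algebraMap (R := Algebra.adjoin F (S : Set Ω)) (x := algebraMap F _ r)
  · rintro ⟨hyL, hy⟩
    obtain ⟨a, ha, b, hb, rfl⟩ := IntermediateField.mem_adjoin_iff_div.mp hyL
    by_cases hb0 : b = 0
    · rw [hb0, div_zero]; exact zero_mem _
    haveI : Algebra.IsIntegral (Algebra.adjoin k (S : Set Ω)) (Algebra.adjoin F (S : Set Ω)) := ⟨fun z => by
      obtain ⟨z, hz⟩ := z
      rw [← isIntegral_algebraMap_iff (R := Algebra.adjoin k (S : Set Ω)) (A := Algebra.adjoin F (S : Set Ω))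
        (B := Ω) Subtype.val_injective]
      show IsIntegral (Algebra.adjoin k (S : Set Ω)) z
      refine Algebra.adjoin_induction (fun x hx => ?_) (fun r => ?_) (fun a b _ _ ha hb => ha.add hb)
        (fun a b _ _ ha hb => ha.mul hb) hz
      · exact isIntegral_algebraMap (R := Algebra.adjoin k (S : Set Ω)) (x := ⟨x, Algebra.subset_adjoin hx⟩)
      · exact ((Algebra.IsIntegral.isIntegral (R := k) (⟨r, hFK r.2⟩ : K)).map K.val).tower_top⟩
    refine hdiv a b (hRC ha) (hRC hb) hb0 ((hc _).2 ((hD _).2 ⟨?_, isIntegral_trans _ hy⟩))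
    have hmono : (Algebra.adjoin F (S : Set Ω)).toSubsemiring ≤ (Algebra.adjoin K (S : Set Ω)).toSubsemiring := by
      intro x hx
      refine Algebra.adjoin_induction (fun y hy => Algebra.subset_adjoin hy) (fun r => ?_)
        (fun a b _ _ ha hb => add_mem ha hb) (fun a b _ _ ha hb => mul_mem ha hb) hx
      exact (Algebra.adjoin K (S : Set Ω)).algebraMap_mem ⟨r, hFK r.2⟩
    exact div_mem (IntermediateField.algebra_adjoin_le_adjoin K _ (hmono ha))
      (IntermediateField.algebra_adjoin_le_adjoin K _ (hmono hb))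

end Groth.Agent.InsepNorm5
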