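import Groth.Agent.Lib.InsepNorm5.Scheme

/-!
# Auxiliary statements for the normalization of the reduced base change of a curve
-/

set_option autoImplicit false
set_option linter.style.haveILetI false
set_option backward.isDefEq.respectTransparency.types false

universe u

open CategoryTheory CategoryTheory.Limits AlgebraicGeometry TensorProduct

namespace Groth.Agent.InsepNorm5

theorem fromSpecStalk_comp_toSpec {k : Type u} [CommRing k] {X : Scheme.{u}} (f : X ⟶ Spec (CommRingCat.of k)) (x : X) :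
    X.fromSpecStalk x ≫ f = Spec.map (CommRingCat.ofHom ((X.presheaf.germ ⊤ x trivial).hom.comp (Coh.toGlobal f))) := by
  rw [← Scheme.SpecMap_stalkMap_fromSpecStalk, Scheme.Spec_fromSpecStalk, ← Spec.map_comp]
  congr 1
  ext a
  show f.stalkMap x _ = _
  erw [Scheme.Hom.germ_stalkMap_apply]
  rfl

/-- A finite level for one affine open. -/
theorem exists_level_of_affine {k : Type u} [Field k] {X : Scheme.{u}} [X.Over (Spec (CommRingCat.of k))]
    [IsIntegral X] [LocallyOfFiniteType (X ↘ Spec (CommRingCat.of k))] {Ω : Type u} [Field Ω] [Algebra k Ω]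
    (gX : Spec (CommRingCat.of Ω) ⟶ X) (hgX : gX (IsLocalRing.closedPoint Ω) = genericPoint X)
    (hgk : gX ≫ X ↘ Spec (CommRingCat.of k) = Spec.map (CommRingCat.ofHom (algebraMap k Ω)))
    (hdim : topologicalKrullDim X ≤ 1) (K : IntermediateField k Ω) [PerfectField K] [Algebra.IsAlgebraic k K]
    {U : X.Opens} (hU : IsAffineOpen U) (hUne : (U : Set X).Nonempty) (hgU : gX (IsLocalRing.closedPoint Ω) ∈ U) :
    ∃ T : Finset Ω, ↑T ⊆ (K : Set Ω) ∧ ∀ F : IntermediateField k Ω, F ≤ K → ↑T ⊆ (F : Set Ω) →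
      ∃ C : Subalgebra F Ω, Algebra.Smooth F C ∧ ∀ y : Ω,
        y ∈ C ↔ y ∈ IntermediateField.adjoin F (Set.range (ev gX U hgU)) ∧
          IsIntegral (Algebra.adjoin F (Set.range (ev gX U hgU))) y := by
  classical
  letI : Algebra k Γ(X, U) := ((((X ↘ Spec (CommRingCat.of k)).appLE ⊤ U (fun _ _ => trivial)).hom).comp
    (Scheme.ΓSpecIso (CommRingCat.of k)).inv.hom).toAlgebra
  haveI : Algebra.FiniteType k Γ(X, U) :=
    RingHom.finiteType_algebraMap.1 ((HasRingHomProperty.appLE (P := @LocallyOfFiniteType)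
      (X ↘ Spec (CommRingCat.of k)) inferInstance ⟨⊤, isAffineOpen_top _⟩ ⟨U, hU⟩ (fun _ _ => trivial)).comp
      (RingHom.FiniteType.of_surjective _ (Scheme.ΓSpecIso (CommRingCat.of k)).commRingCatIsoToRingEquiv.symm.surjective))
  let e : Γ(X, U) →ₐ[k] Ω :=
    { toRingHom := ev gX U hgU
      commutes' := fun r => by
        have key : (Scheme.ΓSpecIso (CommRingCat.of k)).inv ≫ (X ↘ Spec (CommRingCat.of k)).appLE ⊤ U (fun _ _ => trivial) ≫
            gX.appLE U ⊤ (fun y _ => by
              show gX y ∈ U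
              rwa [Subsingleton.elim (α := PrimeSpectrum Ω) y (IsLocalRing.closedPoint Ω)]) ≫
            (Scheme.ΓSpecIso (CommRingCat.of Ω)).hom = CommRingCat.ofHom (algebraMap k Ω) := by
          rw [← Category.assoc ((X ↘ Spec (CommRingCat.of k)).appLE ⊤ U (fun _ _ => trivial)),
            Scheme.Hom.appLE_comp_appLE]
          simp only [hgk]
          simp [Scheme.Hom.appLE, Scheme.Hom.appTop]
        exact ConcreteCategory.congr_hom key r }
  have he : Function.Injective e := ev_injective gX U hgU hgX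
  obtain ⟨S₀, hS₀⟩ : Subalgebra.FG (⊤ : Subalgebra k Γ(X, U)) := Algebra.FiniteType.out
  let S : Finset Ω := S₀.image e
  have hrange : Algebra.adjoin k (S : Set Ω) = e.range := by
    rw [Finset.coe_image, ← AlgHom.map_adjoin, hS₀, Algebra.map_top]
  haveI : Nonempty U := hUne.to_subtype
  haveI : Ring.KrullDimLE 1 (Algebra.adjoin k (S : Set Ω)) := by
    have h1 : ringKrullDim Γ(X, U) ≤ 1 := by
      rw [← PrimeSpectrum.topologicalKrullDim_eq_ringKrullDim]
      exact (hU.fromSpec.isOpenEmbedding.isInducing.topologicalKrullDim_le).trans hdim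
    rw [Ring.krullDimLE_iff]
    refine (le_of_eq ?_).trans h1
    exact (ringKrullDim_eq_of_ringEquiv
      ((AlgEquiv.ofInjective e he).trans (Subalgebra.equivOfEq _ _ hrange.symm)).toRingEquiv).symm
  obtain ⟨T, hT, hT'⟩ := exists_smooth_level K S
  refine ⟨T, hT, fun F hFK hF => ?_⟩
  have h2 : Algebra.adjoin F (Set.range (ev gX U hgU)) = Algebra.adjoin F (S : Set Ω) := by
    apply le_antisymm
    · refine Algebra.adjoin_le ?_
      rintro _ ⟨a, rfl⟩
      have h3 : e a ∈ Algebra.adjoin k (S : Set Ω) := hrange.ge ⟨a, rfl⟩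
      exact (Algebra.adjoin_le (S := (Algebra.adjoin F (S : Set Ω)).restrictScalars k)
        (fun y hy => Algebra.subset_adjoin hy)) h3
    · refine Algebra.adjoin_mono ?_
      rw [Finset.coe_image]
      rintro _ ⟨a, -, rfl⟩
      exact ⟨a, rfl⟩
  have h4 : IntermediateField.adjoin F (Set.range (ev gX U hgU)) = IntermediateField.adjoin F (S : Set Ω) := by
    apply le_antisymm <;> rw [IntermediateField.adjoin_le_iff]
    · intro y hy
      exact IntermediateField.algebra_adjoin_le_adjoin F _ (h2.le (Algebra.subset_adjoin hy))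
    · intro y hy
      exact IntermediateField.algebra_adjoin_le_adjoin F _ (h2.ge (Algebra.subset_adjoin hy))
  rw [h4, h2]
  exact hT' F hFK hF

/-- Smoothness of a ring map read in a field. -/
theorem ringHom_smooth {F Ω : Type u} [Field F] [Field Ω] [Algebra F Ω] {A B : CommRingCat.{u}} (φ : A ⟶ B)
    (e : A ≅ CommRingCat.of F) (μ : B →+* Ω) (hμ : Function.Injective μ)
    (hμk : μ.comp φ.hom = (algebraMap F Ω).comp e.hom.hom) (C : Subalgebra F Ω) (hC : Algebra.Smooth F C)
    (hr : ∀ y, y ∈ Set.range μ ↔ y ∈ C) : φ.hom.Smooth := by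
  letI : Algebra F B := (φ.hom.comp e.inv.hom).toAlgebra
  let μ' : B →ₐ[F] Ω :=
    { toRingHom := μ
      commutes' := fun r => by
        show μ (φ.hom (e.inv r)) = _
        rw [← RingHom.comp_apply, hμk]
        exact congrArg (algebraMap F Ω) (ConcreteCategory.congr_hom e.inv_hom_id r) }
  haveI : Algebra.Smooth F B :=
    Algebra.Smooth.of_equiv ((AlgEquiv.ofInjective μ' hμ).trans (Subalgebra.equivOfEq μ'.range C (SetLike.ext hr))).symm
  have h := RingHom.Smooth.respectsIso.2 (algebraMap F B) e.commRingCatIsoToRingEquiv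
    (RingHom.smooth_algebraMap.2 inferInstance)
  convert h using 1
  ext a
  show φ a = φ (e.inv (e.hom a))
  exact congrArg φ.hom (ConcreteCategory.congr_hom e.hom_inv_id a).symm

/-- Smoothness over an affine base is checked on an affine cover of the source. -/
theorem smooth_of_opens {N T : Scheme.{u}} [IsAffine T] (f : N ⟶ T) {ι : Type*} (V : ι → N.Opens)
    (hV : ⨆ i, V i = ⊤)
    (h : ∀ i, ∃ (_ : IsAffineOpen (V i)), (f.appLE ⊤ (V i) (fun _ _ => trivial)).hom.Smooth) : Smooth f := by
  rw [HasRingHomProperty.iff_exists_appLE (P := @Smooth)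
    (RingHom.Smooth.stableUnderComposition.stableUnderCompositionWithLocalizationAway
      RingHom.Smooth.holdsForLocalizationAway).1]
  intro z
  obtain ⟨i, hi⟩ := TopologicalSpace.Opens.mem_iSup.1 (hV.ge (trivial : z ∈ (⊤ : N.Opens)))
  obtain ⟨hi', hs⟩ := h i
  exact ⟨⟨⊤, isAffineOpen_top T⟩, ⟨V i, hi'⟩, hi, fun _ _ => trivial, hs⟩

end Groth.Agent.InsepNorm5
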