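import Groth.Agent.Lib.InsepNorm5.Algebra
import Groth.Agent.Lib.UnivHomeo.Morph
import Groth.Agent.Lib.RedSep.Basic
import Groth.Agent.Lib.NormUP12.Basic
import Groth.Agent.Lib.FlatH4.PullFlat
import Groth.Prelude.Def_Curv2

/-!
# The normalization of the reduced base change of a curve
-/

set_option autoImplicit false
set_option maxHeartbeats 1000000
set_option linter.style.haveILetI false
set_option backward.isDefEq.respectTransparency.types false

universe u

open CategoryTheory CategoryTheory.Limits AlgebraicGeometry TensorProduct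

namespace Groth.Agent.InsepNorm5

theorem quasiCompact_fromSpecStalk (X : Scheme.{u}) [IsIntegral X] :
    QuasiCompact (X.fromSpecStalk (genericPoint X)) := by
  haveI : Subsingleton (Spec (X.presheaf.stalk (genericPoint X))) :=
    inferInstanceAs (Subsingleton (PrimeSpectrum X.functionField))
  exact ⟨fun U _ _ => (Set.toFinite _).isCompact⟩

theorem quasiSeparated_fromSpecStalk (X : Scheme.{u}) [IsIntegral X] :
    QuasiSeparated (X.fromSpecStalk (genericPoint X)) := inferInstance

/-- Sections of an affine part of a fibre product are generated by those of the factors. -/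
theorem closure_sections {X Y S T : Scheme.{u}} {f : T ⟶ S} {g : Y ⟶ X} {iX : X ⟶ S} {iY : Y ⟶ T}
    (H : IsPullback g iY iX f) [IsAffine S] [IsAffine T] {U : X.Opens} (hU : IsAffineOpen U) :
    Subring.closure (Set.range (g.app U) ∪ Set.range (iY.appLE ⊤ (g ⁻¹ᵁ U) (fun _ _ => trivial))) = ⊤ := by
  have hUY : g ⁻¹ᵁ U = g ⁻¹ᵁ U ⊓ iY ⁻¹ᵁ (⊤ : T.Opens) := by simp
  letI : Algebra Γ(S, ⊤) Γ(T, ⊤) := (f.appLE ⊤ ⊤ (fun _ _ => trivial)).hom.toAlgebra
  letI : Algebra Γ(S, ⊤) Γ(X, U) := (iX.appLE ⊤ U (fun _ _ => trivial)).hom.toAlgebra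
  letI : Algebra Γ(T, ⊤) Γ(Y, g ⁻¹ᵁ U) := (iY.appLE ⊤ (g ⁻¹ᵁ U) (fun _ _ => trivial)).hom.toAlgebra
  letI : Algebra Γ(X, U) Γ(Y, g ⁻¹ᵁ U) := (g.appLE U (g ⁻¹ᵁ U) le_rfl).hom.toAlgebra
  letI : Algebra Γ(S, ⊤) Γ(Y, g ⁻¹ᵁ U) :=
    ((algebraMap Γ(X, U) Γ(Y, g ⁻¹ᵁ U)).comp (algebraMap Γ(S, ⊤) Γ(X, U))).toAlgebra
  haveI : IsScalarTower Γ(S, ⊤) Γ(X, U) Γ(Y, g ⁻¹ᵁ U) := IsScalarTower.of_algebraMap_eq fun _ => rfl
  haveI : IsScalarTower Γ(S, ⊤) Γ(T, ⊤) Γ(Y, g ⁻¹ᵁ U) := IsScalarTower.of_algebraMap_eq fun r => by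
    show (iX.appLE ⊤ U _ ≫ g.appLE U (g ⁻¹ᵁ U) le_rfl) r = (f.appLE ⊤ ⊤ _ ≫ iY.appLE ⊤ (g ⁻¹ᵁ U) _) r
    rw [Scheme.Hom.appLE_comp_appLE, Scheme.Hom.appLE_comp_appLE]
    simp only [H.w]
  haveI h : Algebra.IsPushout Γ(S, ⊤) Γ(T, ⊤) Γ(X, U) Γ(Y, g ⁻¹ᵁ U) :=
    FlatH4.algebra_isPushout_sections H (US := (⊤ : S.Opens)) (UT := (⊤ : T.Opens)) (fun _ _ => trivial) (fun _ _ => trivial) hUY (isAffineOpen_top S)
      (isAffineOpen_top T) hU rfl rfl rfl rfl
  refine eq_top_iff.2 fun y hy0 => ?_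
  clear hy0
  induction y using h.out.inductionOn with
  | zero => exact zero_mem _
  | tmul a =>
    refine Subring.subset_closure (Or.inl ⟨a, ?_⟩)
    rw [Scheme.Hom.app_eq_appLE]
    rfl
  | smul c y hy =>
    rw [Algebra.smul_def]
    exact mul_mem (Subring.subset_closure (Or.inr ⟨c, rfl⟩)) hy
  | add a b ha hb => exact add_mem ha hb

/-- The evaluation of sections at a field-valued point. -/
noncomputable def ev {Z : Scheme.{u}} {L : Type u} [Field L] (ζ : Spec (CommRingCat.of L) ⟶ Z) (V : Z.Opens)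
    (hV : ζ (IsLocalRing.closedPoint L) ∈ V) : Γ(Z, V) →+* L :=
  (ζ.appLE V ⊤ (fun y _ => by
    show ζ y ∈ V
    rwa [Subsingleton.elim (α := PrimeSpectrum L) y (IsLocalRing.closedPoint L)]) ≫
    (Scheme.ΓSpecIso (CommRingCat.of L)).hom).hom

theorem ev_injective {Z : Scheme.{u}} [IsIntegral Z] {L : Type u} [Field L] (ζ : Spec (CommRingCat.of L) ⟶ Z)
    (V : Z.Opens) (hV : ζ (IsLocalRing.closedPoint L) ∈ V) (hζ : ζ (IsLocalRing.closedPoint L) = genericPoint Z) :
    Function.Injective (ev ζ V hV) := by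
  rw [injective_iff_map_eq_zero]
  intro s hs
  by_contra hne
  have h1 : (Z.basicOpen s : Set Z).Nonempty := by
    rw [Set.nonempty_iff_ne_empty]
    intro h
    exact hne ((basicOpen_eq_bot_iff s).1 (TopologicalSpace.Opens.ext h))
  have h2 : ζ (IsLocalRing.closedPoint L) ∈ Z.basicOpen s := by
    rw [hζ]; exact CurveNF.generic_mem h1
  have h3 : IsLocalRing.closedPoint L ∈ (⊤ : (Spec (CommRingCat.of L)).Opens) ⊓ ζ ⁻¹ᵁ Z.basicOpen s := ⟨trivial, h2⟩
  have h5 : ζ.appLE V ⊤ (fun y _ => by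
      show ζ y ∈ V
      rwa [Subsingleton.elim (α := PrimeSpectrum L) y (IsLocalRing.closedPoint L)]) s = 0 :=
    (ConcreteCategory.bijective_of_isIso (Scheme.ΓSpecIso (CommRingCat.of L)).hom).1 (hs.trans (map_zero _).symm)
  rw [← Scheme.basicOpen_appLE (e := fun y _ => by
      show ζ y ∈ V
      rwa [Subsingleton.elim (α := PrimeSpectrum L) y (IsLocalRing.closedPoint L)]), h5,
    Scheme.basicOpen_zero] at h3
  exact h3

variable {k : Type u} [Field k] {X : Scheme.{u}} [X.Over (Spec (CommRingCat.of k))] [IsIntegral X]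
  {Ω : Type u} [Field Ω] [Algebra k Ω] (gX : Spec (CommRingCat.of Ω) ⟶ X)
  (hgX : gX (IsLocalRing.closedPoint Ω) = genericPoint X)
  (hgk : gX ≫ X ↘ Spec (CommRingCat.of k) = Spec.map (CommRingCat.ofHom (algebraMap k Ω)))

/-- The reduction of the base change of an integral scheme along a purely inseparable extension is integral. -/
theorem isIntegral_red (k' : Type u) [Field k'] [Algebra k k'] [IsPurelyInseparable k k'] :
    IsIntegral (Curv2.bc k X k').nilradical.subscheme := by
  let P := Curv2.bc k X k'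
  haveI : IsReduced P.nilradical.subscheme := RedSepLib.isReduced_nilradical_subscheme P
  have h1 : IsHomeomorph (Curv2.bcFst k X k') :=
    UH.isHomeomorph_of_isUnivHomeo (UH.isUnivHomeo_fst _ _ (UH.isUnivHomeo_Spec_of_isPurelyInseparable k k'))
  have h2 : IsHomeomorph P.nilradical.subschemeι := by
    refine isHomeomorph_iff_isEmbedding_surjective.2 ⟨P.nilradical.subschemeι.isEmbedding, fun p => ?_⟩
    show p ∈ Set.range P.nilradical.subschemeι
    rw [Scheme.IdealSheafData.range_subschemeι, Scheme.support_nilradical]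
    trivial
  haveI : IrreducibleSpace P.nilradical.subscheme :=
    (h1.comp h2).homeomorph.irreducibleSpace_iff.2 inferInstance
  exact isIntegral_of_irreducibleSpace_of_isReduced _

include hgk in
/-- The image of an affine part of the reduced base change in `Ω`, and its normalization. -/
theorem exists_data (F : IntermediateField k Ω) [IsPurelyInseparable k F]
    [IsIntegral (Curv2.bc k X F).nilradical.subscheme]
    [QuasiCompact ((Curv2.bc k X F).nilradical.subscheme.fromSpecStalk (genericPoint (Curv2.bc k X F).nilradical.subscheme))]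
    [QuasiSeparated ((Curv2.bc k X F).nilradical.subscheme.fromSpecStalk (genericPoint (Curv2.bc k X F).nilradical.subscheme))]
    {U : X.Opens} (hU : IsAffineOpen U) (hUne : (U : Set X).Nonempty) :
    let Z := (Curv2.bc k X F).nilradical.subscheme
    let ν := Curv2.normalizationι Z
    let V : Z.Opens := (Curv2.bc k X F).nilradical.subschemeι ⁻¹ᵁ (Curv2.bcFst k X F ⁻¹ᵁ U)
    ∃ μ : Γ(Curv2.normalization Z, ν ⁻¹ᵁ V) →+* Ω, Function.Injective μ ∧
      μ.comp ((ν ≫ (Curv2.bc k X F).nilradical.subschemeι ≫ Curv2.bcSnd k X F).appLE ⊤ (ν ⁻¹ᵁ V)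
        (fun _ _ => trivial)).hom = (algebraMap F Ω).comp (Scheme.ΓSpecIso (CommRingCat.of F)).hom.hom ∧
      ∀ y : Ω, y ∈ Set.range μ ↔
        y ∈ IntermediateField.adjoin F (Set.range (ev gX U (hgX.symm ▸ CurveNF.generic_mem hUne))) ∧
          IsIntegral (Algebra.adjoin F (Set.range (ev gX U (hgX.symm ▸ CurveNF.generic_mem hUne)))) y := by
  intro Z ν V
  let P := Curv2.bc k X F
  let p : Z ⟶ X := P.nilradical.subschemeι ≫ Curv2.bcFst k X F
  let q : Z ⟶ Spec (CommRingCat.of F) := P.nilradical.subschemeι ≫ Curv2.bcSnd k X F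
  have hinjp : Function.Injective p := by
    have h1 : IsHomeomorph (Curv2.bcFst k X F) :=
      UH.isHomeomorph_of_isUnivHomeo (UH.isUnivHomeo_fst _ _ (UH.isUnivHomeo_Spec_of_isPurelyInseparable k F))
    show Function.Injective (P.nilradical.subschemeι ≫ Curv2.bcFst k X F)
    rw [Scheme.Hom.comp_base, TopCat.coe_comp]
    exact h1.injective.comp P.nilradical.subschemeι.isEmbedding.injective
  -- the point
  let ζP : Spec (CommRingCat.of Ω) ⟶ P := pullback.lift gX (Spec.map (CommRingCat.ofHom (algebraMap F Ω))) (by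
    rw [hgk, ← Spec.map_comp]
    congr 1)
  haveI : IsReduced (Spec (CommRingCat.of Ω)) := inferInstance
  obtain ⟨ζ, hζ⟩ := RedSepLib.exists_lift_of_range_subset ζP P.nilradical.subschemeι (by
    rw [Scheme.IdealSheafData.range_subschemeι, Scheme.support_nilradical]
    exact Set.subset_univ _)
  have hζp : ζ ≫ p = gX := by
    show ζ ≫ P.nilradical.subschemeι ≫ Curv2.bcFst k X F = gX
    rw [← Category.assoc, hζ]; exact pullback.lift_fst _ _ _
  have hζq : ζ ≫ q = Spec.map (CommRingCat.ofHom (algebraMap F Ω)) := by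
    show ζ ≫ P.nilradical.subschemeι ≫ Curv2.bcSnd k X F = _
    rw [← Category.assoc, hζ]; exact pullback.lift_snd _ _ _
  have hpgen : p (genericPoint Z) = genericPoint X := by
    have h1 : Surjective p := by
      haveI : Surjective (Curv2.bcFst k X F) := ⟨(UH.isHomeomorph_of_isUnivHomeo
        (UH.isUnivHomeo_fst _ _ (UH.isUnivHomeo_Spec_of_isPurelyInseparable k F))).surjective⟩
      haveI : Surjective P.nilradical.subschemeι := ⟨fun z => by
        show z ∈ Set.range P.nilradical.subschemeι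
        rw [Scheme.IdealSheafData.range_subschemeι, Scheme.support_nilradical]
        trivial⟩
      infer_instance
    refine IsGenericPoint.eq ?_ (genericPoint_spec X)
    have := (genericPoint_spec Z).image p.continuous
    rwa [Set.image_univ, h1.surj.range_eq, closure_univ] at this
  have hζgen : ζ (IsLocalRing.closedPoint Ω) = genericPoint Z := hinjp (by
    rw [← Scheme.Hom.comp_apply, hζp, hgX, hpgen])
  have hgen : genericPoint Z ∈ V := by
    show p (genericPoint Z) ∈ U
    rw [hpgen]; exact CurveNF.generic_mem hUne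
  have hVne : (V : Set Z).Nonempty := ⟨_, hgen⟩
  have hζV : ζ (IsLocalRing.closedPoint Ω) ∈ V := hζgen ▸ hgen
  have hgU : gX (IsLocalRing.closedPoint Ω) ∈ U := hgX.symm ▸ CurveNF.generic_mem hUne
  let ρ := ev ζ V hζV
  have hρ : Function.Injective ρ := ev_injective ζ V hζV hζgen
  have hρp : ∀ a : Γ(X, U), ρ (p.app U a) = ev gX U hgU a := by
    intro a
    show (p.app U ≫ ζ.appLE V ⊤ _ ≫ (Scheme.ΓSpecIso (CommRingCat.of Ω)).hom) a =
      (gX.appLE U ⊤ _ ≫ (Scheme.ΓSpecIso (CommRingCat.of Ω)).hom) a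
    rw [← Category.assoc, Scheme.Hom.app_eq_appLE]
    congr 3
    erw [Scheme.Hom.appLE_comp_appLE]
    simp only [hζp]
  have hρq : ∀ c, ρ (q.appLE ⊤ V (fun _ _ => trivial) c) = algebraMap F Ω ((Scheme.ΓSpecIso (CommRingCat.of F)).hom c) := by
    intro c
    show (q.appLE ⊤ V _ ≫ ζ.appLE V ⊤ _ ≫ (Scheme.ΓSpecIso (CommRingCat.of Ω)).hom) c =
      ((Scheme.ΓSpecIso (CommRingCat.of F)).hom ≫ CommRingCat.ofHom (algebraMap F Ω)) c
    rw [← Category.assoc, Scheme.Hom.appLE_comp_appLE]
    simp only [hζq, ← Scheme.ΓSpecIso_naturality]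
    simp [Scheme.Hom.appLE, Scheme.Hom.appTop]
  -- the affine part
  let W : P.Opens := Curv2.bcFst k X F ⁻¹ᵁ U
  haveI : IsAffineHom (Curv2.bcFst k X F) := MorphismProperty.pullback_fst _ _ inferInstance
  have hW : IsAffineOpen W := hU.preimage (Curv2.bcFst k X F)
  have hV : IsAffineOpen V := hW.preimage P.nilradical.subschemeι
  have hsurj : Function.Surjective (P.nilradical.subschemeι.app W) := P.nilradical.subschemeι.app_surjective W hW
  let S₀ : Set Ω := Set.range (ev gX U hgU)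
  have hρrange : ∀ y, y ∈ Set.range ρ ↔ y ∈ Algebra.adjoin F S₀ := by
    intro y
    constructor
    · rintro ⟨s, rfl⟩
      obtain ⟨w, rfl⟩ := hsurj s
      have hw : w ∈ (⊤ : Subring Γ(P, W)) := trivial
      rw [← closure_sections (IsPullback.of_hasPullback (X ↘ Spec (CommRingCat.of k))
        (Spec.map (CommRingCat.ofHom (algebraMap k F)))) hU] at hw
      induction hw using Subring.closure_induction with
      | mem z hz =>
        rcases hz with ⟨a, rfl⟩ | ⟨c, rfl⟩
        · refine Algebra.subset_adjoin ⟨a, (hρp a).symm.trans (congrArg ρ ?_)⟩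
          exact ConcreteCategory.congr_hom (Scheme.Hom.comp_app P.nilradical.subschemeι (Curv2.bcFst k X F) U) a
        · have h2 : P.nilradical.subschemeι.app W ((Curv2.bcSnd k X F).appLE ⊤ W (fun _ _ => trivial) c) =
              q.appLE ⊤ V (fun _ _ => trivial) c := by
            rw [← CommRingCat.comp_apply, Scheme.Hom.app_eq_appLE, Scheme.Hom.appLE_comp_appLE]
          erw [h2, hρq]
          exact Subalgebra.algebraMap_mem _ _
      | zero => rw [map_zero, map_zero]; exact zero_mem _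
      | one => rw [map_one, map_one]; exact one_mem _
      | add a b _ _ ha hb => rw [map_add, map_add]; exact add_mem ha hb
      | neg a _ ha => rw [map_neg, map_neg]; exact neg_mem ha
      | mul a b _ _ ha hb => rw [map_mul, map_mul]; exact mul_mem ha hb
    · intro hy
      induction hy using Algebra.adjoin_induction with
      | mem z hz => obtain ⟨a, rfl⟩ := hz; exact ⟨_, hρp a⟩
      | algebraMap r =>
        refine ⟨q.appLE ⊤ V (fun _ _ => trivial) ((Scheme.ΓSpecIso (CommRingCat.of F)).inv r), ?_⟩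
        rw [hρq]
        exact congrArg (algebraMap F Ω) (ConcreteCategory.congr_hom (Scheme.ΓSpecIso (CommRingCat.of F)).inv_hom_id r)
      | add a b _ _ ha hb => exact (RingHom.range ρ).add_mem ha hb
      | mul a b _ _ ha hb => exact (RingHom.range ρ).mul_mem ha hb
  -- the function field
  haveI : Nonempty V := hVne.to_subtype
  haveI : IsFractionRing Γ(Z, V) Z.functionField := functionField_isFractionRing_of_isAffineOpen Z V hV
  let χ : Z.functionField →+* Ω := IsFractionRing.lift hρ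
  have hχ : ∀ s, χ (algebraMap Γ(Z, V) Z.functionField s) = ρ s := IsFractionRing.lift_algebraMap hρ
  let g := Z.fromSpecStalk (genericPoint Z)
  haveI : QuasiCompact g := ‹QuasiCompact (Z.fromSpecStalk (genericPoint Z))›
  haveI : QuasiSeparated g := ‹QuasiSeparated (Z.fromSpecStalk (genericPoint Z))›
  let ι : Γ(Curv2.normalization Z, ν ⁻¹ᵁ V) →+* Z.functionField := CurveNF.toK (g := g) NormUP12.id_hg hVne
  have hιa : ∀ a, ι (ν.app V a) = algebraMap Γ(Z, V) Z.functionField a :=
    fun a => CurveNF.toK_app (g := g) NormUP12.id_hg hVne a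
  obtain ⟨hι, hιs⟩ := CurveNF.toK_injective_and_range (g := g) NormUP12.id_hg hVne hV
  haveI : IsIntegralHom ν := inferInstanceAs (IsIntegralHom g.fromNormalization)
  refine ⟨χ.comp ι, χ.injective.comp hι, RingHom.ext fun c => ?_, fun y => ⟨?_, ?_⟩⟩
  · have h1 : (ν ≫ q).appLE ⊤ (ν ⁻¹ᵁ V) (fun _ _ => trivial) c = ν.app V (q.appLE ⊤ V (fun _ _ => trivial) c) := by
      rw [← CommRingCat.comp_apply, Scheme.Hom.app_eq_appLE, Scheme.Hom.appLE_comp_appLE]
    show χ (ι _) = _
    refine (congrArg (χ ∘ ι) h1).trans ?_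
    show χ (ι _) = _
    rw [hιa, hχ, hρq]
    rfl
  · rintro ⟨b, rfl⟩
    refine ⟨?_, ?_⟩
    · obtain ⟨⟨a, s⟩, has⟩ := IsLocalization.surj (nonZeroDivisors Γ(Z, V)) (ι b)
      have hs : ρ s ≠ 0 := fun h => nonZeroDivisors.ne_zero s.2 (hρ (h.trans (map_zero _).symm))
      have h2 := congrArg χ has
      rw [map_mul, hχ, hχ] at h2
      show χ (ι b) ∈ _
      rw [(eq_div_iff hs).2 h2]
      exact div_mem (IntermediateField.algebra_adjoin_le_adjoin F _ ((hρrange _).1 ⟨a, rfl⟩))
        (IntermediateField.algebra_adjoin_le_adjoin F _ ((hρrange _).1 ⟨s, rfl⟩))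
    · obtain ⟨f, hm, hf⟩ := ν.isIntegral_app V hV b
      let ρ' : Γ(Z, V) →+* Algebra.adjoin F S₀ := ρ.codRestrict _ fun s => (hρrange _).1 ⟨s, rfl⟩
      refine ⟨f.map ρ', hm.map _, ?_⟩
      have h := congrArg (χ.comp ι) hf
      rw [map_zero, Polynomial.hom_eval₂] at h
      rw [Polynomial.eval₂_map, ← h]
      congr 1
      exact RingHom.ext fun s => ((congrArg χ (hιa s)).trans (hχ s)).symm
  · rintro ⟨hyL, f, hm, hf⟩
    obtain ⟨a, ha, b, hb, rfl⟩ := IntermediateField.mem_adjoin_iff_div.mp hyL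
    obtain ⟨a, rfl⟩ := (hρrange a).2 ha
    obtain ⟨b, rfl⟩ := (hρrange b).2 hb
    let z : Z.functionField := algebraMap Γ(Z, V) Z.functionField a / algebraMap Γ(Z, V) Z.functionField b
    have hz : χ z = ρ a / ρ b := by rw [map_div₀, hχ, hχ]
    let ρe : Γ(Z, V) →+* Algebra.adjoin F S₀ := ρ.codRestrict _ fun s => (hρrange _).1 ⟨s, rfl⟩
    have hρe : Function.Surjective ρe := fun w => by
      obtain ⟨s, hs⟩ := (hρrange w).2 w.2
      exact ⟨s, Subtype.ext hs⟩
    obtain ⟨f', hf', -, hm'⟩ := Polynomial.lifts_and_degree_eq_and_monic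
      ((Polynomial.lifts_iff_coeff_lifts (f := ρe) f).2 fun n => hρe _) hm
    obtain ⟨s, hs⟩ := hιs z ⟨f', hm', by
      refine χ.injective ?_
      rw [map_zero, Polynomial.hom_eval₂, hz]
      rw [← hf', Polynomial.eval₂_map] at hf
      rw [← hf]
      congr 1
      exact RingHom.ext fun s => hχ s⟩
    exact ⟨s, (congrArg χ hs).trans hz⟩

end Groth.Agent.InsepNorm5
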